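import Groth.Agent.Lib.Helper55.GF.Chain
import Mathlib.Algebra.Algebra.Operations
import Mathlib.RingTheory.Ideal.Operations
import Mathlib.Algebra.Exact.Basic

set_option autoImplicit false
universe u

namespace Groth.Agent.Lib.Helper55.GI

open Groth.Agent.Lib.Helper55.GF

variable {A : Type u} [CommRing A] {KA FA Q : Type u} [AddCommGroup KA] [Module A KA]
  [AddCommGroup FA] [Module A FA] [AddCommGroup Q] [Module A Q]

theorem core (j : KA →ₗ[A] FA) (q : FA →ₗ[A] Q) (hj : Function.Injective j)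
    (hq : Function.Surjective q) (hex : Function.Exact j q) {f : A} (hfree : FreeAway Q f)
    (u : Ideal A) (m : KA) (s : A) (hs : s • j m ∈ u • (⊤ : Submodule A FA)) :
    ∃ n : ℕ, (f ^ n * s) • m ∈ u • (⊤ : Submodule A KA) := by
  classical
  obtain ⟨ι, v, -, hind, hspan⟩ := hfree
  choose vt hvt using fun i => hq (v i)
  have hqlc : ∀ c : ι →₀ A, q (Finsupp.linearCombination A vt c) =
      Finsupp.linearCombination A v c := by
    intro c
    rw [Finsupp.apply_linearCombination]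
    have : (q : FA → Q) ∘ vt = v := funext hvt
    rw [this]
  have hdec : ∀ x : FA, ∃ (n : ℕ) (k : KA) (c : ι →₀ A),
      f ^ n • x = j k + Finsupp.linearCombination A vt c := by
    intro x
    obtain ⟨n, hn⟩ := hspan (Submodule.mem_top : q x ∈ ⊤)
    rw [bot_sup_eq] at hn
    obtain ⟨c, hc⟩ := (Finsupp.mem_span_range_iff_exists_finsupp).1 hn
    have h1 : q (f ^ n • x - Finsupp.linearCombination A vt c) = 0 := by
      rw [map_sub, map_smul, hqlc, Finsupp.linearCombination_apply, hc, sub_self]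
    obtain ⟨k, hk⟩ := (hex _).1 h1
    exact ⟨n, k, c, by rw [hk, sub_add_cancel]⟩
  have key : ∀ z ∈ u • (⊤ : Submodule A FA), ∃ (n : ℕ) (k : KA) (c : ι →₀ A),
      k ∈ u • (⊤ : Submodule A KA) ∧ f ^ n • z = j k + Finsupp.linearCombination A vt c := by
    intro z hz
    refine Submodule.smul_induction_on hz ?_ ?_
    · intro a ha x _
      obtain ⟨n, k, c, h1⟩ := hdec x
      refine ⟨n, a • k, a • c, Submodule.smul_mem_smul ha Submodule.mem_top, ?_⟩
      rw [smul_comm, h1, smul_add, map_smul, map_smul]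
    · intro z₁ z₂ h₁ h₂
      obtain ⟨n₁, k₁, c₁, hk₁, e₁⟩ := h₁
      obtain ⟨n₂, k₂, c₂, hk₂, e₂⟩ := h₂
      refine ⟨n₁ + n₂, f ^ n₂ • k₁ + f ^ n₁ • k₂, f ^ n₂ • c₁ + f ^ n₁ • c₂,
        Submodule.add_mem _ (Submodule.smul_mem _ _ hk₁) (Submodule.smul_mem _ _ hk₂), ?_⟩
      have h3 : f ^ (n₁ + n₂) • (z₁ + z₂) = f ^ n₂ • (f ^ n₁ • z₁) + f ^ n₁ • (f ^ n₂ • z₂) := by
        rw [smul_add, pow_add, mul_smul, mul_smul, smul_comm (f ^ n₁) (f ^ n₂) z₁]
      rw [h3, e₁, e₂]
      simp only [smul_add, map_add, map_smul]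
      abel
  obtain ⟨n, k, c, hk, e⟩ := key _ hs
  have h1 : q (Finsupp.linearCombination A vt c) = 0 := by
    have : Finsupp.linearCombination A vt c = j ((f ^ n * s) • m - k) := by
      rw [map_sub, map_smul, mul_smul]
      rw [eq_sub_iff_add_eq, add_comm]
      exact e.symm
    rw [this]
    exact hex.apply_apply_eq_zero _
  rw [hqlc] at h1
  have hc0 : c = 0 := hind c (by rw [h1]; exact Submodule.zero_mem _)
  rw [hc0, map_zero, add_zero, ← mul_smul, ← map_smul] at e
  have := hj e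
  exact ⟨n, by rw [this]; exact hk⟩

end Groth.Agent.Lib.Helper55.GI
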